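import Cfsg.Agent.Spor.McB.S.D0

set_option autoImplicit false
set_option maxRecDepth 100000000
set_option Elab.async false

namespace Cfsg.Agent.Spor.McB.S

theorem gr4 : sub M3 (U.growI W2 [1, 2, 3, 4, 4, 2, 1, 0, 1, 2, 3, 4, 2, 1, 0, 2] (Nat.shiftLeft 1 3)) = true := by decide +kernel

theorem sd6 : U.sends [3, 5] 0 3 = true := by decide +kernel

theorem cl7 : band (U.closedW W2 M3) (sub (Nat.shiftLeft 1 3) M3) = true := by decide +kernel

theorem sz8 : sizeOk 9 M3 112 = true := by decide +kernel

theorem gr11 : sub M10 (U.growI W2 [1, 2, 3, 4, 4, 2, 1, 0, 1, 2, 3, 4, 2, 1, 0, 1, 2] (Nat.shiftLeft 1 1)) = true := by decide +kernel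

theorem sd13 : U.sends [3] 0 1 = true := by decide +kernel

theorem cl14 : band (U.closedW W2 M10) (sub (Nat.shiftLeft 1 1) M10) = true := by decide +kernel

theorem sz15 : sizeOk 9 M10 162 = true := by decide +kernel

theorem ff17 : U.fixFrom 9 275 1 = true := by decide +kernel

theorem ff18 : U.fixFrom 9 275 3 = true := by decide +kernel

theorem ff19 : U.fixFrom 9 275 5 = true := by decide +kernel

theorem ff20 : U.fixFrom 9 275 7 = true := by decide +kernel

theorem ff21 : U.fixFrom 9 275 9 = true := by decide +kernel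

theorem ff22 : U.fixFrom 9 275 11 = true := by decide +kernel

theorem ff23 : U.fixFrom 9 275 13 = true := by decide +kernel

end Cfsg.Agent.Spor.McB.S
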