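import Cfsg.Agent.Spor.Prim
import Cfsg.Agent.Spor.McB.Main
import Cfsg.Agent.Spor.McB.S.C0

set_option autoImplicit false
set_option maxRecDepth 100000000
set_option Elab.async false

namespace Cfsg.Agent.Spor.McB.S

theorem hU : U.Ok 9 := U.ok_of 9 (show AllP (fun n => Net.okb 9 n = true) [n0, n1, n2, n3, n4, n5, n6] from AllP.cons ok0 (AllP.cons ok1 (AllP.cons ok2 (AllP.cons ok3 (AllP.cons ok4 (AllP.cons ok5 (AllP.cons ok6 (AllP.nil))))))))

theorem hfP : ∀ j < 7, U.fP [1, 3, 5, 7, 9, 11, 13] j = fP j := by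
  intro j hj
  interval_cases j <;> rfl
theorem eG : gsub 7 fP = U.lsub W1 := (gsub_congr hfP).symm.trans (lsub_eq_gsub U [1, 3, 5, 7, 9, 11, 13])
theorem upz1 : ev (atm 7 fP) [0] = U.τ 1 := pz1
theorem upz3 : ev (atm 7 fP) [2] = U.τ 3 := pz2
theorem upz5 : ev (atm 7 fP) [4] = U.τ 5 := pz3
theorem upz7 : ev (atm 7 fP) [6] = U.τ 7 := pz4
theorem upz9 : ev (atm 7 fP) [8] = U.τ 9 := pz5
theorem upz11 : ev (atm 7 fP) [10] = U.τ 11 := pz6
theorem upz13 : ev (atm 7 fP) [12] = U.τ 13 := pz7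
theorem eH : wsub 7 fP BW = U.lsub W2 :=
  lsub_eq_of_all₂ (show List.Forall₂ _ [[0], [6], [8], [10], [12]] [[1], [7], [9], [11], [13]] from List.Forall₂.cons (upz1.trans (one_mul _).symm) (List.Forall₂.cons (upz7.trans (one_mul _).symm) (List.Forall₂.cons (upz9.trans (one_mul _).symm) (List.Forall₂.cons (upz11.trans (one_mul _).symm) (List.Forall₂.cons (upz13.trans (one_mul _).symm) (List.Forall₂.nil))))))
theorem reach5 : Reach (U.lsub W2) 3 M3 := (Reach.grow hU (Reach.base _ 3) gr4)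
theorem orb9 : (orbS (U.lsub W2) 3).ncard = 112 := reach5.ncard hU cl7 sz8
theorem orb9e : orbS (U.lsub W2) 3 = {c | Nat.testBit M3 c = true} := reach5.orb hU cl7
theorem reach12 : Reach (U.lsub W2) 1 M10 := (Reach.grow hU (Reach.base _ 1) gr11)
theorem orb16 : (orbS (U.lsub W2) 1).ncard = 162 := reach12.ncard hU cl14 sz15
theorem orb16e : orbS (U.lsub W2) 1 = {c | Nat.testBit M10 c = true} := reach12.orb hU cl14
noncomputable def X : List SubO := [([3, 5], 3, M3), ([3], 1, M10)]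
theorem hX : AllP (SubOk U W2 W1) X :=
  show AllP (SubOk U W2 W1) [([3, 5], 3, M3), ([3], 1, M10)] from AllP.cons ⟨U.mem_letters (by decide), (hU.sends sd6), reach5⟩ (AllP.cons ⟨U.mem_letters (by decide), (hU.sends sd13), reach12⟩ (AllP.nil))
theorem hXc : subCov 275 X = true := by decide +kernel
theorem hfix : gsub 7 fP ≤ FixFrom 275 := (gsub_congr hfP).symm.le.trans (hU.gsub_fix (gs := [1, 3, 5, 7, 9, 11, 13]) (AllP.cons ff17 (AllP.cons ff18 (AllP.cons ff19 (AllP.cons ff20 (AllP.cons ff21 (AllP.cons ff22 (AllP.cons ff23 (AllP.nil)))))))))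

end Cfsg.Agent.Spor.McB.S
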